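import Cfsg.Agent.Lib.Fischer.UB.Cox
import Cfsg.Agent.Lib.Fischer.UB.A8
import Cfsg.Agent.Lib.Fischer.UB.A9.Cl

/-! Upper bounds from the relations of the presented Fi22 (letters b c d e h f g i a). -/

set_option autoImplicit false

namespace Cfsg.Agent.Fi

open Cfsg.Agent.PC

variable {G : Type} [Group G] {g : ℕ → G}

theorem le_A8 (h : Cx g 8 LY) (h1 : ev g [7, 4, 2, 5, 3, 2, 0, 1, 2] ^ 10 = 1) (h2 : ev g [4, 6, 5, 3, 2, 1, 0] ^ 9 = 1) :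
    CardLE (gen g 8) 4585351680 :=
  ((le_E6 (cx_mono h (by omega))).of_relIndex (cx_idx UA7.closes (cx_mono h (by omega)) (ex := [wpow [4, 6, 5, 3, 2, 1, 0] 9])
    (by simpa only [List.forall_mem_singleton, ev_wpow]) (by decide +kernel))).of_relIndex
    (cx_idx UA8.closes h (ex := [wpow [7, 4, 2, 5, 3, 2, 0, 1, 2] 10, wpow [4, 6, 5, 3, 2, 1, 0] 9])
      (by simp only [List.forall_mem_cons, ev_wpow]; exact ⟨h1, h2, by simp⟩) (by decide +kernel))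

theorem le_A9 (h : Cx g 9 LY) (h1 : ev g [7, 4, 2, 5, 3, 2, 0, 1, 2] ^ 10 = 1) (h2 : ev g [4, 5, 3, 2, 1, 0, 8] ^ 9 = 1)
    (h3 : ev g [4, 6, 5, 3, 2, 1, 0] ^ 9 = 1) : (gen g 8).relIndex (gen g 9) ≠ 0 ∧ (gen g 8).relIndex (gen g 9) ≤ 14080 :=
  cx_idx UA9.closes h (ex := [wpow [7, 4, 2, 5, 3, 2, 0, 1, 2] 10, wpow [4, 5, 3, 2, 1, 0, 8] 9, wpow [4, 6, 5, 3, 2, 1, 0] 9])
    (by simp only [List.forall_mem_cons, ev_wpow]; exact ⟨h1, h2, h3, by simp⟩) (by decide +kernel)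

end Cfsg.Agent.Fi
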