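import Cfsg.Agent.Lib.Fischer.UB.Cox
import Cfsg.Agent.Lib.Fischer.UB.B8
import Cfsg.Agent.Lib.Fischer.UB.B9.Cl
import Cfsg.Agent.Lib.Fischer.UB.B10.Cl

/-! Upper bounds from the relations of the presented Fi23 (letters f e d c h b a i g j). -/

set_option autoImplicit false

namespace Cfsg.Agent.Fi

open Cfsg.Agent.PC

variable {G : Type} [Group G] {g : ℕ → G}

theorem le_B10 (h : Cx g 10 LY) (h1 : ev g [7, 4, 2, 0, 1, 2, 5, 3, 2] ^ 10 = 1) (h2 : ev g [4, 0, 1, 2, 3, 5, 6] ^ 9 = 1) :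
    CardLE (gen g 10) 4089470473293004800 :=
  have he : ∀ w ∈ [wpow [7, 4, 2, 0, 1, 2, 5, 3, 2] 10, wpow [4, 0, 1, 2, 3, 5, 6] 9], ev g w = 1 := by
    simp only [List.forall_mem_cons, ev_wpow]; exact ⟨h1, h2, by simp⟩
  ((((le_E6 (cx_mono h (by omega))).of_relIndex
    (cx_idx UB7.closes (cx_mono h (by omega)) he (by decide +kernel))).of_relIndex
    (cx_idx UB8.closes (cx_mono h (by omega)) he (by decide +kernel))).of_relIndex
    (cx_idx UB9.closes (cx_mono h (by omega)) he (by decide +kernel))).of_relIndex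
    (cx_idx UB10.closes h he (by decide +kernel))

end Cfsg.Agent.Fi
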