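import Cfsg.Agent.Lib.PermCert.HC

set_option autoImplicit false
set_option maxRecDepth 100000

namespace Cfsg.Agent.Fi

open Cfsg.Agent.PC

namespace WD5
def t0x : TN := (TN.leaf (nat_lit 0x937c239c5ac0a69da8b1410889403199c426a64202a208c42210))
def t1x : TN := (TN.leaf (nat_lit 0x92fc43901863d10cb0e8816b0862ba0115ea656109100cc62210))
def t2x : TN := (TN.leaf (nat_lit 0x967887481cf2c75db4a842e21620490215aa8c44598844804210))
def t3x : TN := (TN.leaf (nat_lit 0x10f103e09ae4c7a5b129a32b1810a884c80e2122031010c82210))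
def t4x : TN := (TN.leaf (nat_lit 0x957c1f8436219206886081840a653aa995ca8a444999c8420401))
def tt : TN := (TN.node (TN.node (TN.node (TN.node t0x (TN.leaf (nat_lit 0))) (TN.node t4x (TN.leaf (nat_lit 0)))) (TN.node (TN.node t2x (TN.leaf (nat_lit 0))) (TN.node (TN.leaf (nat_lit 0)) (TN.leaf (nat_lit 0))))) (TN.node (TN.node (TN.node t1x (TN.leaf (nat_lit 0))) (TN.node (TN.leaf (nat_lit 0)) (TN.leaf (nat_lit 0)))) (TN.node (TN.node t3x (TN.leaf (nat_lit 0))) (TN.node (TN.leaf (nat_lit 0)) (TN.leaf (nat_lit 0))))))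
noncomputable def T (j c : ℕ) : ℕ := getL tt (nat_lit 13) (nat_lit 15) j c
noncomputable def E (j c : ℕ) : ℕ := getL tt (nat_lit 13) (nat_lit 8191) j c
theorem T_eq (j c : ℕ) : T j c = E j c % 16 :=
  getL_mod (a := 4) (b := 13) _ _ (by norm_num) (by norm_num) (by norm_num) (by norm_num) j c
def rels : List (List ℕ) := [[nat_lit 0, nat_lit 1, nat_lit 0, nat_lit 1, nat_lit 0, nat_lit 1], [nat_lit 0, nat_lit 2, nat_lit 0, nat_lit 2], [nat_lit 0, nat_lit 3, nat_lit 0, nat_lit 3], [nat_lit 0, nat_lit 4, nat_lit 0, nat_lit 4], [nat_lit 1, nat_lit 2, nat_lit 1, nat_lit 2, nat_lit 1, nat_lit 2], [nat_lit 1, nat_lit 3, nat_lit 1, nat_lit 3], [nat_lit 1, nat_lit 4, nat_lit 1, nat_lit 4], [nat_lit 2, nat_lit 3, nat_lit 2, nat_lit 3, nat_lit 2, nat_lit 3], [nat_lit 2, nat_lit 4, nat_lit 2, nat_lit 4, nat_lit 2, nat_lit 4], [nat_lit 3, nat_lit 4, nat_lit 3, nat_lit 4]]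
def X_t : TN := (TN.leaf (nat_lit 0))
noncomputable def X (i : ℕ) : ℕ := get9 X_t (nat_lit 1) (nat_lit 1) i
def Jp_t : TN := (TN.leaf (nat_lit 0))
noncomputable def Jp (i : ℕ) : ℕ := get9 Jp_t (nat_lit 1) (nat_lit 1) i
def J_t : TN := (TN.leaf (nat_lit 0))
noncomputable def J (k : ℕ) : ℕ := getV J_t Jp k
def Pa_t : TN := (TN.leaf (nat_lit 0xae39d28b4794791684672562553433430323321212104000))
noncomputable def Pa (i : ℕ) : ℕ := get9 Pa_t (nat_lit 12) (nat_lit 4095) i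
def W_t : TL := (TL.node (TL.node (TL.node (TL.node (TL.node (TL.leaf [nat_lit 6145, nat_lit 0, nat_lit 4, nat_lit 0, nat_lit 4]) (TL.leaf [nat_lit 16385, nat_lit 2, nat_lit 4, nat_lit 2, nat_lit 4, nat_lit 2, nat_lit 4])) (TL.leaf [nat_lit 18435, nat_lit 4, nat_lit 3, nat_lit 4, nat_lit 3])) (TL.node (TL.leaf [nat_lit 4097, nat_lit 0, nat_lit 3, nat_lit 0, nat_lit 3]) (TL.leaf [nat_lit 6147, nat_lit 4, nat_lit 0, nat_lit 4, nat_lit 0]))) (TL.node (TL.node (TL.node (TL.leaf [nat_lit 18433, nat_lit 3, nat_lit 4, nat_lit 3, nat_lit 4]) (TL.leaf [nat_lit 10243, nat_lit 3, nat_lit 1, nat_lit 3, nat_lit 1])) (TL.leaf [nat_lit 14337, nat_lit 2, nat_lit 3, nat_lit 2, nat_lit 3, nat_lit 2, nat_lit 3])) (TL.node (TL.leaf [nat_lit 2049, nat_lit 0, nat_lit 2, nat_lit 0, nat_lit 2]) (TL.leaf [nat_lit 8193, nat_lit 1, nat_lit 2, nat_lit 1, nat_lit 2, nat_lit 1, nat_lit 2])))) (TL.node (TL.node (TL.node (TL.node (TL.leaf [nat_lit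 12289, nat_lit 1, nat_lit 4, nat_lit 1, nat_lit 4]) (TL.leaf [nat_lit 1, nat_lit 0, nat_lit 1, nat_lit 0, nat_lit 1, nat_lit 0, nat_lit 1])) (TL.leaf [nat_lit 8195, nat_lit 2, nat_lit 1, nat_lit 2, nat_lit 1, nat_lit 2, nat_lit 1])) (TL.node (TL.leaf [nat_lit 16387, nat_lit 4, nat_lit 2, nat_lit 4, nat_lit 2, nat_lit 4, nat_lit 2]) (TL.leaf [nat_lit 3, nat_lit 1, nat_lit 0, nat_lit 1, nat_lit 0, nat_lit 1, nat_lit 0]))) (TL.node (TL.node (TL.leaf [nat_lit 10241, nat_lit 1, nat_lit 3, nat_lit 1, nat_lit 3]) (TL.leaf [nat_lit 2051, nat_lit 2, nat_lit 0, nat_lit 2, nat_lit 0])) (TL.node (TL.leaf [nat_lit 12291, nat_lit 4, nat_lit 1, nat_lit 4, nat_lit 1]) (TL.leaf [nat_lit 14339, nat_lit 3, nat_lit 2, nat_lit 3, nat_lit 2, nat_lit 3, nat_lit 2])))))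
noncomputable def W (i : ℕ) : List ℕ := TL.get W_t i
def WA_t : TL := (TL.leaf [nat_lit 0])
noncomputable def WA (i : ℕ) : List ℕ := TL.get WA_t i
noncomputable def row : ℕ → ℕ := hRow (nat_lit 15) (nat_lit 5) (nat_lit 4) (nat_lit 16) (nat_lit 32) (nat_lit 512) (nat_lit 256) (nat_lit 256) (nat_lit 0) E X Pa (fun j => j) (wfun (nat_lit 19) W_t)
noncomputable def aux : ℕ → ℕ := hAux (nat_lit 16) (nat_lit 5) (nat_lit 16) (nat_lit 512) (nat_lit 256) (nat_lit 2) (nat_lit 2) (nat_lit 256) (nat_lit 0) E X J Pa (fun j => j) WA_t.get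
theorem r0 : Nat.beq (rng row (nat_lit 0) (nat_lit 16)) (nat_lit 0) = true := by decide +kernel
theorem rows : ∀ i < 16, row i = 0 := by
  have h := zero_lt_zero row
  have h := zero_lt_add (a := (nat_lit 0)) (n := (nat_lit 16)) (b := (nat_lit 16)) h r0 rfl
  exact h
theorem auxs : ∀ i < 0, aux i = 0 := by
  have h := zero_lt_zero aux
  exact h
theorem closes.{u} : ClosesT.{u} (fun j => j) rels 5 4 16 T :=
  hc_closes (N1 := (nat_lit 15)) rfl T_eq (by decide +kernel) rows auxs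
theorem T_inv : ∀ c < 16, ∀ j < 5, T j c < 16 ∧ T j (T j c) = c := 
  hc_inv (inv := (fun j => j)) (N1 := (nat_lit 15)) rfl T_eq rows
end WD5

namespace WE6
def t0x : TN := (TN.leaf (nat_lit 0x20e480d69b8c2af655ac2ad054a1e7214a4d8b80e829ec141805bb8c529aa0250d5200731d02091872900653468508c208820))
def t1x : TN := (TN.leaf (nat_lit 0x1cc6841c1019c22f645ac3ad074a1a6a042598a072401b01b8c87882a72164031994b8c8400acc18c63882320088408c308820))
def t2x : TN := (TN.leaf (nat_lit 0x1caeb53c883720316ddac4aa012a5266250417c8902023023a1b6c26c76d620a0413900a2012ca99542aa641044400cc408820))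
def t3x : TN := (TN.leaf (nat_lit 0x1cb6b4fce1d8106a20d080b9016a4674f4a4e8cbd010590f38415100f10524034805ba28644ecb19512a9e4438620848010820))
def t4x : TN := (TN.leaf (nat_lit 0x1cfeb5dce358502c85dd00a18b5106342c8809c8b092df02ba0b6c3ac72d6ed299a48826104840204119007200a8588c508820))
def t5x : TN := (TN.leaf (nat_lit 0x1cbeb50ce198b26f44d84198831202a20bc80a082d202420ac8084a0c201d0629cc4ba48648ecb99522aa04430664884101001))
def tt : TN := (TN.node (TN.node (TN.node (TN.node t0x (TN.leaf (nat_lit 0))) (TN.node t4x (TN.leaf (nat_lit 0)))) (TN.node (TN.node t2x (TN.leaf (nat_lit 0))) (TN.node (TN.leaf (nat_lit 0)) (TN.leaf (nat_lit 0))))) (TN.node (TN.node (TN.node t1x (TN.leaf (nat_lit 0))) (TN.node t5x (TN.leaf (nat_lit 0)))) (TN.node (TN.node t3x (TN.leaf (nat_lit 0))) (TN.node (TN.leaf (nat_lit 0)) (TN.leaf (nat_lit 0))))))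
noncomputable def T (j c : ℕ) : ℕ := getL tt (nat_lit 15) (nat_lit 31) j c
noncomputable def E (j c : ℕ) : ℕ := getL tt (nat_lit 15) (nat_lit 32767) j c
theorem T_eq (j c : ℕ) : T j c = E j c % 32 :=
  getL_mod (a := 5) (b := 15) _ _ (by norm_num) (by norm_num) (by norm_num) (by norm_num) j c
def rels : List (List ℕ) := [[nat_lit 0, nat_lit 1, nat_lit 0, nat_lit 1, nat_lit 0, nat_lit 1], [nat_lit 0, nat_lit 2, nat_lit 0, nat_lit 2], [nat_lit 0, nat_lit 3, nat_lit 0, nat_lit 3], [nat_lit 0, nat_lit 4, nat_lit 0, nat_lit 4], [nat_lit 0, nat_lit 5, nat_lit 0, nat_lit 5], [nat_lit 1, nat_lit 2, nat_lit 1, nat_lit 2, nat_lit 1, nat_lit 2], [nat_lit 1, nat_lit 3, nat_lit 1, nat_lit 3], [nat_lit 1, nat_lit 4, nat_lit 1, nat_lit 4], [nat_lit 1, nat_lit 5, nat_lit 1, nat_lit 5], [nat_lit 2, nat_lit 3, nat_lit 2, nat_lit 3, nat_lit 2, nat_lit 3], [nat_lit 2, nat_lit 4, nat_lit 2, nat_lit 4, nat_lit 2, nat_lit 4], [nat_lit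 2, nat_lit 5, nat_lit 2, nat_lit 5], [nat_lit 3, nat_lit 4, nat_lit 3, nat_lit 4], [nat_lit 3, nat_lit 5, nat_lit 3, nat_lit 5, nat_lit 3, nat_lit 5], [nat_lit 4, nat_lit 5, nat_lit 4, nat_lit 5]]
def X_t : TN := (TN.leaf (nat_lit 0))
noncomputable def X (i : ℕ) : ℕ := get9 X_t (nat_lit 1) (nat_lit 1) i
def Jp_t : TN := (TN.leaf (nat_lit 0))
noncomputable def Jp (i : ℕ) : ℕ := get9 Jp_t (nat_lit 1) (nat_lit 1) i
def J_t : TN := (TN.leaf (nat_lit 0))
noncomputable def J (k : ℕ) : ℕ := getV J_t Jp k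
def Pa_t : TN := (TN.leaf (nat_lit 0x21907e05d726d4d94364d57155c514f553c92d54b0d0b5428d0a13a4ce8231c8c642910a4020d083118884130814000))
noncomputable def Pa (i : ℕ) : ℕ := get9 Pa_t (nat_lit 14) (nat_lit 16383) i
def W_t : TL := (TL.node (TL.node (TL.node (TL.node (TL.node (TL.leaf [nat_lit 8193, nat_lit 0, nat_lit 5, nat_lit 0, nat_lit 5]) (TL.leaf [nat_lit 28675, nat_lit 5, nat_lit 4, nat_lit 5, nat_lit 4])) (TL.node (TL.leaf [nat_lit 4097, nat_lit 0, nat_lit 3, nat_lit 0, nat_lit 3]) (TL.leaf [nat_lit 20483, nat_lit 4, nat_lit 2, nat_lit 4, nat_lit 2, nat_lit 4, nat_lit 2]))) (TL.node (TL.node (TL.leaf [nat_lit 14337, nat_lit 1, nat_lit 4, nat_lit 1, nat_lit 4]) (TL.leaf [nat_lit 4099, nat_lit 3, nat_lit 0, nat_lit 3, nat_lit 0])) (TL.node (TL.leaf [nat_lit 18435, nat_lit 3, nat_lit 2, nat_lit 3, nat_lit 2, nat_lit 3, nat_lit 2]) (TL.leaf [nat_lit 26625, nat_lit 3, nat_lit 5, nat_lit 3, nat_lit 5, nat_lit 3,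 nat_lit 5])))) (TL.node (TL.node (TL.node (TL.leaf [nat_lit 22529, nat_lit 2, nat_lit 5, nat_lit 2, nat_lit 5]) (TL.leaf [nat_lit 20481, nat_lit 2, nat_lit 4, nat_lit 2, nat_lit 4, nat_lit 2, nat_lit 4])) (TL.node (TL.leaf [nat_lit 22531, nat_lit 5, nat_lit 2, nat_lit 5, nat_lit 2]) (TL.leaf [nat_lit 1, nat_lit 0, nat_lit 1, nat_lit 0, nat_lit 1, nat_lit 0, nat_lit 1]))) (TL.node (TL.node (TL.leaf [nat_lit 12289, nat_lit 1, nat_lit 3, nat_lit 1, nat_lit 3]) (TL.leaf [nat_lit 3, nat_lit 1, nat_lit 0, nat_lit 1, nat_lit 0, nat_lit 1, nat_lit 0])) (TL.leaf [nat_lit 16387, nat_lit 5, nat_lit 1, nat_lit 5, nat_lit 1])))) (TL.node (TL.node (TL.node (TL.node (TL.leaf [nat_lit 16385, nat_lit 1, nat_lit 5, nat_lit 1, nat_lit 5]) (TL.leaf [nat_lit 10243, nat_lit 2, nat_lit 1, nat_lit 2, nat_lit 1, nat_lit 2, nat_lit 1])) (TL.node (TL.leaf [nat_lit 24579, nat_lit 4, nat_lit 3, nat_lit 4, nat_lit 3]) (TL.leaf [nat_lit 18433,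 nat_lit 2, nat_lit 3, nat_lit 2, nat_lit 3, nat_lit 2, nat_lit 3]))) (TL.node (TL.node (TL.leaf [nat_lit 6145, nat_lit 0, nat_lit 4, nat_lit 0, nat_lit 4]) (TL.leaf [nat_lit 8195, nat_lit 5, nat_lit 0, nat_lit 5, nat_lit 0])) (TL.node (TL.leaf [nat_lit 12291, nat_lit 3, nat_lit 1, nat_lit 3, nat_lit 1]) (TL.leaf [nat_lit 6147, nat_lit 4, nat_lit 0, nat_lit 4, nat_lit 0])))) (TL.node (TL.node (TL.node (TL.leaf [nat_lit 28673, nat_lit 4, nat_lit 5, nat_lit 4, nat_lit 5]) (TL.leaf [nat_lit 2051, nat_lit 2, nat_lit 0, nat_lit 2, nat_lit 0])) (TL.node (TL.leaf [nat_lit 2049, nat_lit 0, nat_lit 2, nat_lit 0, nat_lit 2]) (TL.leaf [nat_lit 14339, nat_lit 4, nat_lit 1, nat_lit 4, nat_lit 1]))) (TL.node (TL.node (TL.leaf [nat_lit 26627, nat_lit 5, nat_lit 3, nat_lit 5, nat_lit 3, nat_lit 5, nat_lit 3]) (TL.leaf [nat_lit 10241, nat_lit 1, nat_lit 2, nat_lit 1, nat_lit 2, nat_lit 1, nat_lit 2])) (TL.leaf [nat_lit 24577,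 nat_lit 3, nat_lit 4, nat_lit 3, nat_lit 4])))))
noncomputable def W (i : ℕ) : List ℕ := TL.get W_t i
def WA_t : TL := (TL.leaf [nat_lit 0])
noncomputable def WA (i : ℕ) : List ℕ := TL.get WA_t i
noncomputable def row : ℕ → ℕ := hRow (nat_lit 26) (nat_lit 6) (nat_lit 5) (nat_lit 32) (nat_lit 64) (nat_lit 2048) (nat_lit 512) (nat_lit 512) (nat_lit 0) E X Pa (fun j => j) (wfun (nat_lit 30) W_t)
noncomputable def aux : ℕ → ℕ := hAux (nat_lit 27) (nat_lit 6) (nat_lit 32) (nat_lit 2048) (nat_lit 512) (nat_lit 2) (nat_lit 2) (nat_lit 512) (nat_lit 0) E X J Pa (fun j => j) WA_t.get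
theorem r0 : Nat.beq (rng row (nat_lit 0) (nat_lit 27)) (nat_lit 0) = true := by decide +kernel
theorem rows : ∀ i < 27, row i = 0 := by
  have h := zero_lt_zero row
  have h := zero_lt_add (a := (nat_lit 0)) (n := (nat_lit 27)) (b := (nat_lit 27)) h r0 rfl
  exact h
theorem auxs : ∀ i < 0, aux i = 0 := by
  have h := zero_lt_zero aux
  exact h
theorem closes.{u} : ClosesT.{u} (fun j => j) rels 6 5 27 T :=
  hc_closes (N1 := (nat_lit 26)) rfl T_eq (by decide +kernel) rows auxs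
theorem T_inv : ∀ c < 27, ∀ j < 6, T j c < 27 ∧ T j (T j c) = c := 
  hc_inv (inv := (fun j => j)) (N1 := (nat_lit 26)) rfl T_eq rows
end WE6

namespace WE7
def t0x : TN := (TN.leaf (nat_lit 0xb85bd8ddaa9eb44349919a00c253e272323817190bcc05854ed2814c53a886d6402681b38c2a020c4f364785188095c6c2e0a0720fb4279a13ad4dc604db136986b2b09859abac8590024a35452099c254e01e94d031a898031139a54ce28051102c8010320908229c818400e64042a6190d0861021040))
def t1x : TN := (TN.leaf (nat_lit 0xb87bd8edaa4eb493420190c7cc20df21f01018c64ba44da602a89d5949b0a04f00e821d49008df1caf3a418730417dc742e0e0101134379a1bad25c606db09698732601559cbac758a1b050115489a83488728400e49c78c9402096824c10069e429039240063c638c72020882005292190e0861821040))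
def t2x : TN := (TN.leaf (nat_lit 0xb89bd8adab36a1073101a4deca6ee327b00836841b0405e202e8955c26aa0553012828123c499efca42a7201039d89c5423123082e34479a23a201f280c326698532411b200a2de59622a3297082828449452220134947a66392e9a898c0824841204016200a3be399e18ce8a1043100210a0862021040))
def t3x : TN := (TN.leaf (nat_lit 0xb8bbda9d820e82035a359cdaca6be326b092d7c56b820d6106910168419c4059016810153c599f04afa6470b1b9789d4c2401d6acf9006c62c0105918af0415c4038c158100d2da5962aaba5452c9a854954a2104d4d278412c4020104a1007080310d1276883c0399a18cb8a558408210800c62821040))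
def t4x : TN := (TN.leaf (nat_lit 0xb8dbd8bdaa8eb49740838841bc4066106e1019080c248db146c8975c11aa05d301a87973bc699f5ca702170d1ba888c5c8601e6caf94680a036501a20ce91170802ec198196c8414d632ab2d4100b2864945a2a4504967a5139341a844c44a59e528208e1045100484110401020062a2190b0863021040))
def t5x : TN := (TN.leaf (nat_lit 0xbd5b841d4406d5534a379cdbca6c6326f09297c54ba295b04ac08343d2a820cc202b0831880a5f0ca10601013b988820bc20246a8f88085d53ac49c6d4dad26820acca98082988065752a1050100baaa48209c20140826080454c1a200f4a85a14290d9276c83c2399b18cc0a550422418410440041040))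
def t6x : TN := (TN.leaf (nat_lit 0x83b080dec7eb5574a399cdcca6ce3273092b7c55ba27db03ec8195bcfa9e65210657193841884050d324082f880998642105c10118416820b22020082b88078403a1054100db5c5820a2201862a98413c402ab3d0100928f394c9a93cc4aa5a15290e1277083c4399c18cc8a554421e18cc0820802001))
def tt : TN := (TN.node (TN.node (TN.node (TN.node t0x (TN.leaf (nat_lit 0))) (TN.node t4x (TN.leaf (nat_lit 0)))) (TN.node (TN.node t2x (TN.leaf (nat_lit 0))) (TN.node t6x (TN.leaf (nat_lit 0))))) (TN.node (TN.node (TN.node t1x (TN.leaf (nat_lit 0))) (TN.node t5x (TN.leaf (nat_lit 0)))) (TN.node (TN.node t3x (TN.leaf (nat_lit 0))) (TN.node (TN.leaf (nat_lit 0)) (TN.leaf (nat_lit 0))))))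
noncomputable def T (j c : ℕ) : ℕ := getL tt (nat_lit 17) (nat_lit 63) j c
noncomputable def E (j c : ℕ) : ℕ := getL tt (nat_lit 17) (nat_lit 131071) j c
theorem T_eq (j c : ℕ) : T j c = E j c % 64 :=
  getL_mod (a := 6) (b := 17) _ _ (by norm_num) (by norm_num) (by norm_num) (by norm_num) j c
def rels : List (List ℕ) := [[nat_lit 0, nat_lit 1, nat_lit 0, nat_lit 1, nat_lit 0, nat_lit 1], [nat_lit 0, nat_lit 2, nat_lit 0, nat_lit 2], [nat_lit 0, nat_lit 3, nat_lit 0, nat_lit 3], [nat_lit 0, nat_lit 4, nat_lit 0, nat_lit 4], [nat_lit 0, nat_lit 5, nat_lit 0, nat_lit 5], [nat_lit 0, nat_lit 6, nat_lit 0, nat_lit 6], [nat_lit 1, nat_lit 2, nat_lit 1, nat_lit 2, nat_lit 1, nat_lit 2], [nat_lit 1, nat_lit 3, nat_lit 1, nat_lit 3], [nat_lit 1, nat_lit 4, nat_lit 1, nat_lit 4], [nat_lit 1, nat_lit 5, nat_lit 1, nat_lit 5], [nat_lit 1, nat_lit 6, nat_lit 1, nat_lit 6], [nat_lit 2, nat_lit 3, nat_lit 2, nat_lit 3, nat_lit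 2, nat_lit 3], [nat_lit 2, nat_lit 4, nat_lit 2, nat_lit 4, nat_lit 2, nat_lit 4], [nat_lit 2, nat_lit 5, nat_lit 2, nat_lit 5], [nat_lit 2, nat_lit 6, nat_lit 2, nat_lit 6], [nat_lit 3, nat_lit 4, nat_lit 3, nat_lit 4], [nat_lit 3, nat_lit 5, nat_lit 3, nat_lit 5, nat_lit 3, nat_lit 5], [nat_lit 3, nat_lit 6, nat_lit 3, nat_lit 6], [nat_lit 4, nat_lit 5, nat_lit 4, nat_lit 5], [nat_lit 4, nat_lit 6, nat_lit 4, nat_lit 6], [nat_lit 5, nat_lit 6, nat_lit 5, nat_lit 6, nat_lit 5, nat_lit 6]]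
def X_t : TN := (TN.leaf (nat_lit 0))
noncomputable def X (i : ℕ) : ℕ := get9 X_t (nat_lit 1) (nat_lit 1) i
def Jp_t : TN := (TN.leaf (nat_lit 0))
noncomputable def Jp (i : ℕ) : ℕ := get9 Jp_t (nat_lit 1) (nat_lit 1) i
def J_t : TN := (TN.leaf (nat_lit 0))
noncomputable def J (k : ℕ) : ℕ := getV J_t Jp k
def Pa_t : TN := (TN.leaf (nat_lit 0xdecdad573a1e332be296bd2d78d6e4ada54b0a959ce939d0b29ce532ca568c6b189a310420583ed07c5ef2bdc67b84e699ccb39936aecd5cdab2b146626ac4d168b2d055a04a3d9472a8d3498a92cd258a0a341247208e3a185430a05110a209032184620542030000))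
noncomputable def Pa (i : ℕ) : ℕ := get9 Pa_t (nat_lit 15) (nat_lit 32767) i
def W_t : TL := (TL.node (TL.node (TL.node (TL.node (TL.node (TL.node (TL.leaf [nat_lit 10241, nat_lit 0, nat_lit 6, nat_lit 0, nat_lit 6]) (TL.leaf [nat_lit 10243, nat_lit 6, nat_lit 0, nat_lit 6, nat_lit 0])) (TL.leaf [nat_lit 32771, nat_lit 5, nat_lit 3, nat_lit 5, nat_lit 3, nat_lit 5, nat_lit 3])) (TL.node (TL.node (TL.leaf [nat_lit 26625, nat_lit 2, nat_lit 5, nat_lit 2, nat_lit 5]) (TL.leaf [nat_lit 40961, nat_lit 5, nat_lit 6, nat_lit 5, nat_lit 6, nat_lit 5, nat_lit 6])) (TL.leaf [nat_lit 30721, nat_lit 3, nat_lit 4, nat_lit 3, nat_lit 4]))) (TL.node (TL.node (TL.node (TL.leaf [nat_lit 38913, nat_lit 4, nat_lit 6, nat_lit 4, nat_lit 6]) (TL.leaf [nat_lit 22529, nat_lit 2, nat_lit 3, nat_lit 2, nat_lit 3, nat_lit 2, nat_lit 3])) (TL.leaf [nat_lit 22531, nat_lit 3, nat_lit 2, nat_lit 3, nat_lit 2, nat_lit 3, nat_lit 2])) (TL.node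 (TL.leaf [nat_lit 18433, nat_lit 1, nat_lit 5, nat_lit 1, nat_lit 5]) (TL.leaf [nat_lit 24577, nat_lit 2, nat_lit 4, nat_lit 2, nat_lit 4, nat_lit 2, nat_lit 4])))) (TL.node (TL.node (TL.node (TL.node (TL.leaf [nat_lit 28673, nat_lit 2, nat_lit 6, nat_lit 2, nat_lit 6]) (TL.leaf [nat_lit 12289, nat_lit 1, nat_lit 2, nat_lit 1, nat_lit 2, nat_lit 1, nat_lit 2])) (TL.leaf [nat_lit 26627, nat_lit 5, nat_lit 2, nat_lit 5, nat_lit 2])) (TL.node (TL.leaf [nat_lit 40963, nat_lit 6, nat_lit 5, nat_lit 6, nat_lit 5, nat_lit 6, nat_lit 5]) (TL.leaf [nat_lit 38915, nat_lit 6, nat_lit 4, nat_lit 6, nat_lit 4]))) (TL.node (TL.node (TL.node (TL.leaf [nat_lit 6145, nat_lit 0, nat_lit 4, nat_lit 0, nat_lit 4]) (TL.leaf [nat_lit 16387, nat_lit 4, nat_lit 1, nat_lit 4, nat_lit 1])) (TL.leaf [nat_lit 18435, nat_lit 5, nat_lit 1, nat_lit 5, nat_lit 1])) (TL.node (TL.leaf [nat_lit 2049, nat_lit 0, nat_lit 2, nat_lit 0, nat_lit 2])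 (TL.leaf [nat_lit 4099, nat_lit 3, nat_lit 0, nat_lit 3, nat_lit 0]))))) (TL.node (TL.node (TL.node (TL.node (TL.node (TL.leaf [nat_lit 20481, nat_lit 1, nat_lit 6, nat_lit 1, nat_lit 6]) (TL.leaf [nat_lit 3, nat_lit 1, nat_lit 0, nat_lit 1, nat_lit 0, nat_lit 1, nat_lit 0])) (TL.leaf [nat_lit 4097, nat_lit 0, nat_lit 3, nat_lit 0, nat_lit 3])) (TL.node (TL.node (TL.leaf [nat_lit 36865, nat_lit 4, nat_lit 5, nat_lit 4, nat_lit 5]) (TL.leaf [nat_lit 6147, nat_lit 4, nat_lit 0, nat_lit 4, nat_lit 0])) (TL.leaf [nat_lit 36867, nat_lit 5, nat_lit 4, nat_lit 5, nat_lit 4]))) (TL.node (TL.node (TL.node (TL.leaf [nat_lit 16385, nat_lit 1, nat_lit 4, nat_lit 1, nat_lit 4]) (TL.leaf [nat_lit 1, nat_lit 0, nat_lit 1, nat_lit 0, nat_lit 1, nat_lit 0, nat_lit 1])) (TL.leaf [nat_lit 14339, nat_lit 3, nat_lit 1, nat_lit 3, nat_lit 1])) (TL.node (TL.leaf [nat_lit 34819, nat_lit 6, nat_lit 3, nat_lit 6, nat_lit 3]) (TL.leaf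 [nat_lit 2051, nat_lit 2, nat_lit 0, nat_lit 2, nat_lit 0])))) (TL.node (TL.node (TL.node (TL.node (TL.leaf [nat_lit 34817, nat_lit 3, nat_lit 6, nat_lit 3, nat_lit 6]) (TL.leaf [nat_lit 24579, nat_lit 4, nat_lit 2, nat_lit 4, nat_lit 2, nat_lit 4, nat_lit 2])) (TL.leaf [nat_lit 28675, nat_lit 6, nat_lit 2, nat_lit 6, nat_lit 2])) (TL.node (TL.leaf [nat_lit 8193, nat_lit 0, nat_lit 5, nat_lit 0, nat_lit 5]) (TL.leaf [nat_lit 12291, nat_lit 2, nat_lit 1, nat_lit 2, nat_lit 1, nat_lit 2, nat_lit 1]))) (TL.node (TL.node (TL.node (TL.leaf [nat_lit 14337, nat_lit 1, nat_lit 3, nat_lit 1, nat_lit 3]) (TL.leaf [nat_lit 32769, nat_lit 3, nat_lit 5, nat_lit 3, nat_lit 5, nat_lit 3, nat_lit 5])) (TL.leaf [nat_lit 20483, nat_lit 6, nat_lit 1, nat_lit 6, nat_lit 1])) (TL.node (TL.leaf [nat_lit 30723, nat_lit 4, nat_lit 3, nat_lit 4, nat_lit 3]) (TL.leaf [nat_lit 8195, nat_lit 5, nat_lit 0, nat_lit 5, nat_lit 0]))))))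
noncomputable def W (i : ℕ) : List ℕ := TL.get W_t i
def WA_t : TL := (TL.leaf [nat_lit 0])
noncomputable def WA (i : ℕ) : List ℕ := TL.get WA_t i
noncomputable def row : ℕ → ℕ := hRow (nat_lit 55) (nat_lit 7) (nat_lit 6) (nat_lit 64) (nat_lit 64) (nat_lit 4096) (nat_lit 1024) (nat_lit 1024) (nat_lit 0) E X Pa (fun j => j) (wfun (nat_lit 42) W_t)
noncomputable def aux : ℕ → ℕ := hAux (nat_lit 56) (nat_lit 7) (nat_lit 64) (nat_lit 4096) (nat_lit 1024) (nat_lit 2) (nat_lit 2) (nat_lit 1024) (nat_lit 0) E X J Pa (fun j => j) WA_t.get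
theorem r0 : Nat.beq (rng row (nat_lit 0) (nat_lit 56)) (nat_lit 0) = true := by decide +kernel
theorem rows : ∀ i < 56, row i = 0 := by
  have h := zero_lt_zero row
  have h := zero_lt_add (a := (nat_lit 0)) (n := (nat_lit 56)) (b := (nat_lit 56)) h r0 rfl
  exact h
theorem auxs : ∀ i < 0, aux i = 0 := by
  have h := zero_lt_zero aux
  exact h
theorem closes.{u} : ClosesT.{u} (fun j => j) rels 7 6 56 T :=
  hc_closes (N1 := (nat_lit 55)) rfl T_eq (by decide +kernel) rows auxs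
theorem T_inv : ∀ c < 56, ∀ j < 7, T j c < 56 ∧ T j (T j c) = c := 
  hc_inv (inv := (fun j => j)) (N1 := (nat_lit 55)) rfl T_eq rows
end WE7

namespace WE8
def t0x : TN := (TN.leaf (nat_lit 0xbc2efb90eeb57edb1becad4eba89ea200e7a74e81c9e91c0e5194e6180e315be4140e0a1be1117e2100dd9d7de0d0df041d8041d7997da990d9080dc080db957d6950d5954d4914d3910d2910d191bd08dbcf8d0ce8dbcd8d7cc89bcb897ca890c9897c8889c7857c6849c5200be857c3854c2809c1817c0814bf1d0c41c0b881bbc7d4bb1c0b47dbb9197bd180b17f4b679bb5197ba180ad7b4b215bb7140ab180a8774ae15bb3140a6114b0100a4734a915baf140a1114ac1009f0c9aa0419c1409b114a7100990c9a5041967899d080a3114a2100930c9a004190749970809e754951008d0c99a0418a70991080987148f71b8e0c994041846c98b080926d4896db886d7870417e689850808c6948369b82697816908004177080866497d6547c65b7b6577a65079642780807f3406f6147561b746177361072602716107031476300685db6d5d76c5d06b5c26a5d7692db6e2c0612c06059765590645826359b6229b67297662805a280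595505d5425c5545b2575f2505e24053240522405150255509542175821057202562004b2004a200494f44d5574c1d0501c24f1c94e1c0441c0431c042510451904818247194461803d1803c4d03f4c23e1424115b401403614035490394823849b371023b1173a1002f450334423244231457300d034041294022d4022c4172b4102a0802e3c2283d7273c2263d0253d42438223390223902139b203421f3501e35b1d3571c240173101a31719309182021b200132d7152d4141d0161c01029b11197121800d2740e15b0f1400b1140c100090c90a0410620907080081d40519b0415703110020c20104100))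
def t1x : TN := (TN.leaf (nat_lit 0xbc3efb8feeb55edb0aecaf1eb100e90c8ea041e6a48e7080e8a31e5a4ae4180e1a15e214ae3140de9cfdf115e0100d99b0dc970db995da0cfdd041d4041d3955d694fd5080d8080d790fd290fd190ad08cacf8cfce8cacd8d5cc88acb895ca180c4895c8888c7855c6848c514fc9140bd871c2808c1140ba831bf84fbe115c3100b77f1bb115c0100b3815b80cabc041b0100af7d5b40cab9041ac7cab1080b60cab5041a778aad080b27b1ab7c8aa041a274aa8080ae771a6788a51009d7b0a3080a9731a1748a0100977709e0c8a4041956f19b7089a10091730980c89f0418f0809c6c8941008b6f0920c899041890809670a8e100856b08c0c89304183080906ca886d5873807f0c88d0417c0808a68a826958168f8037086041766487d0808464a7b6557a64f79643780416f0807e631752006e6157360f726037160f70080771ca741c0671c0665cf6b5c36a5d5695ca6818a6d1956c1805f1805e5836358a6258a61595601556514f6414057140565715b5555a54f595955810f5d1035c1004f1004e2404c50f525035154f500c3550c8540414621553200454c34a4c84950f48503470804d1cf4b1c03f1c03e4b1424c3414ca4018f441834318038180374833b4953a48f391433d14a3c140311403044f3444f334433210336115351002a4302e4032d4032c4152b0cf2f041243c3283d5273c3263cf25080293832338f2238f2138a201c01b34f1e34a1d3551c1831f1801631519308183031714f1a140122f1142cf13115151000f295100ca110410c24a0d0800e2310b2480a10007230080c809041050800618a041550310f020c30104100))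
def t2x : TN := (TN.leaf (nat_lit 0xbc4efb8eeeb4bedb33ec041ea080ebaaae9aa9e8a6ae7041e4041e3080e6080e5a0be29f3e19cbe09cedf140da98edd9abdc96bdb10bde100d5969d8929d794bd60ced9041d0041cf90ed290ed1080d4080d3140c98f3cd8cbcc8b3cb88bca10ece100c38aac7100c086ac588ec40cbc8041bc82ac10cbc6041b984ebe84bbd080c2041b580bba080bf80bb8833b7829b6080bb7cbb47f3b37e9b27f3b1041aa7b3af7a9ae7b3ad041a5041a4080b0769a9773a8041a00419f080ac080ab7aba30419a04199080a7080a676b9e76a9d7699c04193080a2080a172b9872a97729960418e6ea940809b6eb926ea916e99004188080956aa8d280866aa8b6a98a041820808f6cb8726b8c2007d2407e0417b0808968b8168e8066b7f229841ea85041740808364b7a64e7964478629770416e0416d0807c1806c60e726047160e7004168080760807514b73140645c46a5cb690806f5f3675cb665cb6510e6b1005c5b3625b36158b601805858e5e58e5d0c463041541805354e5914b5f1405054456544550805b14b5a1404b5045110e571004752a4e5294d50b4c10e52100434ea4950e480c44f041404ce454ce440c44a0413c4c441080461c0394843e4843d080424843b48b3a18e3f18032473374443644b3544e3444e33144381402c1402b40e2f42b2e4042d1043110b30100253e9293c4283cb273c4260ce2a041201801f38e2238e2108024144231401a3731d34b1c3441b10e1e1001532a183041730e160cb19041112ce132cb120801428b102b30f2a90e2730d0410a041090800c0800b22b081ea071e906041040800514b0310e020c40104100))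
def t3x : TN := (TN.leaf (nat_lit 0xbc5efb8deeb76ed041eb080ecae5eaaa5e9aa1e8a65e7a60e6a20e5041e2041e0080e4041de080e39cddf080e198ddd9acdc96cdb9b6da94dd9961d8921d7976d6100d1920d48e0d3100ce0cdd5041cc041ca0cdd2041c8080d0041c6080cf8cdc9080cd8a5c7080cb865c588dc48b6c3860c2825c1876c0820bf84dbe876bd041b67e0bb836ba041b2836b8041b0080bc041ae7f6b4041ac080b9041ab080b7041a7080b5041a6080b3080b17e5aa761a9041a1080af080ad7a5a57a5a47aca3720a2080a8765a07659f76c9e7659d7619c6e09b280947259972c987259772196720952659a2408d2408c6e5916e1906e08f041872259322c9220085200846a089041810808e6ac861e58b1e18a1c07c0417a0808868d8066c7f6617e6657d1a083041730808264d79645786217762076620750416c0807b1406b6057160d705e06f04166041650807410d72100635f669041600415f0806e0806d5cd640c56a0415b0415a080680806758d5e58d5d5855c080620806154d595b65854d575455654555565545765350d5250551140485054f5254e5214d5364c140444c54a4e54910d50100414e0461403f10d4b1003d4a0420c5470413a10d45100380c543041354853b0804048d390c53e04130445360803c44d3444d3344532405310803740d2f42c2e4052d140264362b3cd2a3e129140233f6271052c100213a024105281001e0cd250411c3851f0cd2204119080203451b34d1a0801d325183051730d16336152e0142cd132f6120410e2b6100410c080110410b0800f0800d2650a2250922c081e5071e1061a005041030800410d020c50104100))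
def t4x : TN := (TN.leaf (nat_lit 0xbc6efb92eeb4cedb16ecaf2eb041e8041e6080ea041e5080e9080e7a56e4a16e3a0ce29d6e19cce09d2df98cde992dd9b9dc979db1c0d6952d9975d8935d718cda180d2932d48f2d3152d5140ce140cd140cb112d1116d0100c8116cf100c68d2c90cccc041c20ccca041bf892c488cc3080c7041bb84cc0080c5852be84cbd856bc080c180cba816b980cb8816b7835b67d6b57ccb47d6b37f5b27d6b17f2b0796af7b5ae796ad7b2ac7b2ab041a3775a9756a8772a7772a60419e0419c080aa732a2732a10419804196080a504195080a46f29b0419204190080a00418f0809f0809d0418c0418a0809a0418908099080977168e04184080940418308093080916d6886cc876b9860417c0808d0808b6968268c81692806797f6757e04175080856567b64c7a652796467863577632760807d1c06d60c736127260671612705f26f1c06719674180655d26b5c66a5cc691c0611966e1805f14c6c1405d5866359662196681805a14c661405711264100555725b14c601405258c581125e1004f0c65c0414d54c53112591004a552500c656041460805450c4c5124b0c6510414251248506470804e4d2454d2444c643080494c6414d6404923f4863e4863d4963c4863b48c3a2403344638456374463644c3545234212392002d4063140c304122f4392e1c6321c0281c0273d22a3f5291862c18c2b18023180223b22414626152251401e1401d3861f1122111620100193461b3521a0cc1c04114306173121630c15080182d2132cc122d61128c102960f2b50e2560d2720c2320b04108041060800a0410508009080071960414c03112020c60104100))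
def t5x : TN := (TN.leaf (nat_lit 0xbc7efbb7ee041ec080edb1debae6eaaa6e9aa2e8a66e7a5de6a1de5a1ce49dce3041df99ce1041dd080e2041d9080e09addc96ddb041d5080de962d8922d7041d2080da91dd48ddd3080d6977d18dcd089ccf937ce89ccd041c785ccb041c58f7c9041c2080cc041bf080ca8b7c4041bc080c8826c1041b9080c6877be041b7080c37ddbb041b3080c0041b1080bd862b679cb5041ad080ba822b2080b881db075caf300a9080b47ddac7ddab7e6aa2e2ae71ca82c0a279da67a6a57a6a47ada329da72809b2809a7669f76d9e7669d7629c25da1266a02409324092726977229671d95726942269922d982008b2008a6dd8f6dc8e6e68d6ed8c1e6911e2901c08369c88041806ad866a6856a28419d891807b041790808766d7f6627e6667d65d7c15c820417208081647786227761d7661d7561c740416b0807a1006a637705dd6f5dc6e5dc6d04164080730c7710416259c6859c670415e0415d0806c5c7630806955c61041590415708066080655875c59d5b0415208060041500805f5475654755566540414b0805a50751080585074f5264e5224d04145080534c74a4e649577484c7474dd460804c537444874349d421003b49c404f73f4473e1003645c3c0c741041344b7391003141c370c73d0412f0803a477331002c0c7380412a0803542d2e100280c73204125080303e2290c72d04122407260802b39d243c723080273f72135c203871f3b71e31c1d041183471b3771a041140801c307173371604111080192f7130410f080150410d080122e20e0801029d0c25d0b2660a2260922d081e6071e20619d0515c0404102080030c70104100))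
def t6x : TN := (TN.leaf (nat_lit 0xbf8ef041ed080eeb59ecb1eebae7eaaa7e9aa3e8a67e7a5ee6a1ee5a19e49d9e39d8e2999e1998e0041dc958de041d8080df96edb918da041d4080dd923d78d8d6041d0080d98ded3041cd041cc080d5899cf041c8080d2080d1859cb858ca041c3080ce927c7818c63c0c1041bd080c98dec23a7c57d8c0380bb041b8080c4899bc35ebf798ba340b5080be859b7863b6319b9758b4300af300ae819b181eb02d9b32e3b22c0a82c0a77deab7e7aa7e3a9299ad29eac280a1280a07a7a47aea379ea225ea6267a524099240987679d7639c75e9b7679a2279f22e9e200912009071e95727947279372e921e7971e3961c0896d98e6e78d6ee8c6e78b6e38a19e8f18082698876ae866a7856a38469e83159881407a0417866e7f6637e6677d65e7c6597b1188104171080806237761e7661e7561974618730416a08079041695de6f5d96e5d96d5d86c041630807208070599685996759866598650415c0806b5d96255961558605585f04156041550806459e5b5185a04151518580414f0805e0805d567544d8530414a0805904147080575274e5234d4984c04143080524e74904141080504de460413e0413d0804b49e4208048499400413808045080444593c5383b4583a041320803f419374f836418350412e0412d080394b8313d8300412908034080334782c3982b041240802f438283582743826041200802a3f8230411d0411c080253b81f0411908022080213781b041150801e3a71833817041120801a35e14041100801631911080132d90f2e30e2990d29e0c25e0b2670a2270922e081e7071e30619e051590411803041010800204100))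
def t7x : TN := (TN.leaf (nat_lit 0x41ee080efb93edb5aecb1febae8eaaa8e9aa4e8a68e7a5fe6a1fe5a1ae49dae39d3e299ae1993e0991df953de951dd500db4efdc913da911d94c0d74a4d88d3d68d1d5480d345fd4891d2891d1440cf41ad0851ce400cb400ca3dacd3d3cc811c93c0c63c0c5393c83a8c77d1c4380c0380bf8e8c1353c335fc2791be340ba340b989fbb313bd31abc300b4300b3300b285ab52d3b82dab72e4b62c0ad2c0ac81aaf824ae29ab129fb0280a6280a57e4a97daa87dfa725fab268aa2409f2409e79fa279fa17a8a0228a422fa3200972009675f9b7689a7689976f981e89d1e49c1c08f728947289372f92728917249019f95180886e88d6ef8c6e88b6e48a6df8915a8e140816af866a8856a48469f8369a82113871007966f7f6647e6687d65f7c65a7b6537a0d180041706247761f7661f7561a74613736117204169080785df6f5da6e5da6d5d36c5d16b041620807159a6859a675936659365591640415b0806a55a61553605535f5515e5515d04154080635135a5115951358511570414e0414d0805c4d3534d152041494d1500414608056080554934c4914b041420805149148041400804f45145451440413c0804a0413a080474113f04137041350804304134080413d139041300803e0412f0803d0803b391330412b0412a08038080364ef2e041270412508032080314a429041220802d041210802c45f240411e080280802641a200411a080233da1d3d31c041160801f393193a818041130801b3531535f14080173131231a112d3102da0f2e40e29a0d29f0c25f0b2680a2280922f081e8071e40619f0515a04113030d1020410008001))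
def tt : TN := (TN.node (TN.node (TN.node (TN.node t0x (TN.leaf (nat_lit 0))) (TN.node t4x (TN.leaf (nat_lit 0)))) (TN.node (TN.node t2x (TN.leaf (nat_lit 0))) (TN.node t6x (TN.leaf (nat_lit 0))))) (TN.node (TN.node (TN.node t1x (TN.leaf (nat_lit 0))) (TN.node t5x (TN.leaf (nat_lit 0)))) (TN.node (TN.node t3x (TN.leaf (nat_lit 0))) (TN.node t7x (TN.leaf (nat_lit 0))))))
noncomputable def T (j c : ℕ) : ℕ := getL tt (nat_lit 20) (nat_lit 255) j c
noncomputable def E (j c : ℕ) : ℕ := getL tt (nat_lit 20) (nat_lit 0xfffff) j c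
theorem T_eq (j c : ℕ) : T j c = E j c % 256 :=
  getL_mod (a := 8) (b := 20) _ _ (by norm_num) (by norm_num) (by norm_num) (by norm_num) j c
def rels : List (List ℕ) := [[nat_lit 0, nat_lit 1, nat_lit 0, nat_lit 1, nat_lit 0, nat_lit 1], [nat_lit 0, nat_lit 2, nat_lit 0, nat_lit 2], [nat_lit 0, nat_lit 3, nat_lit 0, nat_lit 3], [nat_lit 0, nat_lit 4, nat_lit 0, nat_lit 4], [nat_lit 0, nat_lit 5, nat_lit 0, nat_lit 5], [nat_lit 0, nat_lit 6, nat_lit 0, nat_lit 6], [nat_lit 0, nat_lit 7, nat_lit 0, nat_lit 7], [nat_lit 1, nat_lit 2, nat_lit 1, nat_lit 2, nat_lit 1, nat_lit 2], [nat_lit 1, nat_lit 3, nat_lit 1, nat_lit 3], [nat_lit 1, nat_lit 4, nat_lit 1, nat_lit 4], [nat_lit 1, nat_lit 5, nat_lit 1, nat_lit 5], [nat_lit 1, nat_lit 6, nat_lit 1, nat_lit 6], [nat_lit 1, nat_lit 7, nat_lit 1, nat_lit 7], [nat_lit 2, nat_lit 3, nat_lit 2, nat_lit 3, nat_lit 2, nat_lit 3], [nat_lit 2, nat_lit 4, nat_lit 2, nat_lit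 4, nat_lit 2, nat_lit 4], [nat_lit 2, nat_lit 5, nat_lit 2, nat_lit 5], [nat_lit 2, nat_lit 6, nat_lit 2, nat_lit 6], [nat_lit 2, nat_lit 7, nat_lit 2, nat_lit 7], [nat_lit 3, nat_lit 4, nat_lit 3, nat_lit 4], [nat_lit 3, nat_lit 5, nat_lit 3, nat_lit 5, nat_lit 3, nat_lit 5], [nat_lit 3, nat_lit 6, nat_lit 3, nat_lit 6], [nat_lit 3, nat_lit 7, nat_lit 3, nat_lit 7], [nat_lit 4, nat_lit 5, nat_lit 4, nat_lit 5], [nat_lit 4, nat_lit 6, nat_lit 4, nat_lit 6], [nat_lit 4, nat_lit 7, nat_lit 4, nat_lit 7], [nat_lit 5, nat_lit 6, nat_lit 5, nat_lit 6, nat_lit 5, nat_lit 6], [nat_lit 5, nat_lit 7, nat_lit 5, nat_lit 7], [nat_lit 6, nat_lit 7, nat_lit 6, nat_lit 7, nat_lit 6, nat_lit 7]]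
def X_t : TN := (TN.leaf (nat_lit 0))
noncomputable def X (i : ℕ) : ℕ := get9 X_t (nat_lit 1) (nat_lit 1) i
def Jp_t : TN := (TN.leaf (nat_lit 0))
noncomputable def Jp (i : ℕ) : ℕ := get9 Jp_t (nat_lit 1) (nat_lit 1) i
def J_t : TN := (TN.leaf (nat_lit 0))
noncomputable def J (k : ℕ) : ℕ := getV J_t Jp k
def Pa_t : TN := (TN.leaf (nat_lit 0xe7b9f8ed6dfb176eb3d7a8b4e84cf9933e61cb9532e42c78cb1e23c380f0df5bf78efdd5bf71aed95bb61aed80b75c2dd55b751add41b34c6cd25b341acd02af3cabcd6af31abcc3ab28eac86ab20eac75a718e9c55a70da9c25a70928bf5a2fd28bd6a2f168bc29eed27b959ee4a7b869edd67b639ad4a6b359ac8e6b159ac0e6b0196b8e5ad596b0e5ac196ace5aa2929ce4a719298e4a529290a4a348e8863a138e80a39f28e79239c48e70229a28a64a29848a59229608a5522951864ca1924864121900863d218f18638a08c48229208a08225208918220a08737e111f8407e0d1f8317e089f8137e015e7e079f11e7c179ec9e7a379e55e78675dc1d76175d51d74275ccdd72575c59d70771bc5c6e271b49c6c371ad5c6a671a5dc6966d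a09b6636d94db6456d8d9b6276d895a603697cda5e569755a5c6696dda5b36568d9595655d59566655599547655098525614598505613d984e76135d84d45d2d574a65d25d74765d19d74645d1856455590d964275909164165901d640254f9953d654f1d53c254e9d53a350e19437750d5d435350d1d43454cc9933074cc0d32f74cbd532e648b5922b748a9d22a548a592290449dd12574495512464490502274089502174081902023c79cf1d63c718f1c33869ce1963864ce1853459cd15634514d144304dcc12630454c1122c418b0f52c38ca0d52830ca0c1242cc90a22024880841c19070601815060511410840330c09420160401c0000))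
noncomputable def Pa (i : ℕ) : ℕ := get9 Pa_t (nat_lit 18) (nat_lit 262143) i
def W_t : TL := (TL.node (TL.node (TL.node (TL.node (TL.node (TL.node (TL.leaf [nat_lit 12289, nat_lit 0, nat_lit 7, nat_lit 0, nat_lit 7]) (TL.leaf [nat_lit 20483, nat_lit 5, nat_lit 1, nat_lit 5, nat_lit 1])) (TL.node (TL.leaf [nat_lit 47105, nat_lit 4, nat_lit 6, nat_lit 4, nat_lit 6]) (TL.leaf [nat_lit 28675, nat_lit 4, nat_lit 2, nat_lit 4, nat_lit 2, nat_lit 4, nat_lit 2]))) (TL.node (TL.node (TL.leaf [nat_lit 16385, nat_lit 1, nat_lit 3, nat_lit 1, nat_lit 3]) (TL.leaf [nat_lit 28673, nat_lit 2, nat_lit 4, nat_lit 2, nat_lit 4, nat_lit 2, nat_lit 4])) (TL.leaf [nat_lit 43011, nat_lit 7, nat_lit 3, nat_lit 7, nat_lit 3]))) (TL.node (TL.node (TL.node (TL.leaf [nat_lit 49153, nat_lit 4, nat_lit 7, nat_lit 4, nat_lit 7]) (TL.leaf [nat_lit 45059, nat_lit 5, nat_lit 4, nat_lit 5, nat_lit 4])) (TL.node (TL.leaf [nat_lit 36867, nat_lit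 4, nat_lit 3, nat_lit 4, nat_lit 3]) (TL.leaf [nat_lit 38913, nat_lit 3, nat_lit 5, nat_lit 3, nat_lit 5, nat_lit 3, nat_lit 5]))) (TL.node (TL.node (TL.leaf [nat_lit 32769, nat_lit 2, nat_lit 6, nat_lit 2, nat_lit 6]) (TL.leaf [nat_lit 10243, nat_lit 6, nat_lit 0, nat_lit 6, nat_lit 0])) (TL.leaf [nat_lit 32771, nat_lit 6, nat_lit 2, nat_lit 6, nat_lit 2])))) (TL.node (TL.node (TL.node (TL.node (TL.leaf [nat_lit 34817, nat_lit 2, nat_lit 7, nat_lit 2, nat_lit 7]) (TL.leaf [nat_lit 24579, nat_lit 7, nat_lit 1, nat_lit 7, nat_lit 1])) (TL.node (TL.leaf [nat_lit 2049, nat_lit 0, nat_lit 2, nat_lit 0, nat_lit 2]) (TL.leaf [nat_lit 1, nat_lit 0, nat_lit 1, nat_lit 0, nat_lit 1, nat_lit 0, nat_lit 1]))) (TL.node (TL.node (TL.leaf [nat_lit 45057, nat_lit 4, nat_lit 5, nat_lit 4, nat_lit 5]) (TL.leaf [nat_lit 4099, nat_lit 3, nat_lit 0, nat_lit 3, nat_lit 0])) (TL.leaf [nat_lit 38915, nat_lit 5, nat_lit 3, nat_lit 5,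 nat_lit 3, nat_lit 5, nat_lit 3]))) (TL.node (TL.node (TL.node (TL.leaf [nat_lit 18433, nat_lit 1, nat_lit 4, nat_lit 1, nat_lit 4]) (TL.leaf [nat_lit 49155, nat_lit 7, nat_lit 4, nat_lit 7, nat_lit 4])) (TL.node (TL.leaf [nat_lit 51203, nat_lit 6, nat_lit 5, nat_lit 6, nat_lit 5, nat_lit 6, nat_lit 5]) (TL.leaf [nat_lit 55297, nat_lit 6, nat_lit 7, nat_lit 6, nat_lit 7, nat_lit 6, nat_lit 7]))) (TL.node (TL.node (TL.leaf [nat_lit 10241, nat_lit 0, nat_lit 6, nat_lit 0, nat_lit 6]) (TL.leaf [nat_lit 3, nat_lit 1, nat_lit 0, nat_lit 1, nat_lit 0, nat_lit 1, nat_lit 0])) (TL.leaf [nat_lit 26627, nat_lit 3, nat_lit 2, nat_lit 3, nat_lit 2, nat_lit 3, nat_lit 2]))))) (TL.node (TL.node (TL.node (TL.node (TL.node (TL.leaf [nat_lit 24577, nat_lit 1, nat_lit 7, nat_lit 1, nat_lit 7]) (TL.leaf [nat_lit 22531, nat_lit 6, nat_lit 1, nat_lit 6, nat_lit 1])) (TL.node (TL.leaf [nat_lit 53251, nat_lit 7, nat_lit 5, nat_lit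 7, nat_lit 5]) (TL.leaf [nat_lit 26625, nat_lit 2, nat_lit 3, nat_lit 2, nat_lit 3, nat_lit 2, nat_lit 3]))) (TL.node (TL.node (TL.leaf [nat_lit 30721, nat_lit 2, nat_lit 5, nat_lit 2, nat_lit 5]) (TL.leaf [nat_lit 2051, nat_lit 2, nat_lit 0, nat_lit 2, nat_lit 0])) (TL.leaf [nat_lit 4097, nat_lit 0, nat_lit 3, nat_lit 0, nat_lit 3]))) (TL.node (TL.node (TL.node (TL.leaf [nat_lit 53249, nat_lit 5, nat_lit 7, nat_lit 5, nat_lit 7]) (TL.leaf [nat_lit 47107, nat_lit 6, nat_lit 4, nat_lit 6, nat_lit 4])) (TL.node (TL.leaf [nat_lit 8193, nat_lit 0, nat_lit 5, nat_lit 0, nat_lit 5]) (TL.leaf [nat_lit 51201, nat_lit 5, nat_lit 6, nat_lit 5, nat_lit 6, nat_lit 5, nat_lit 6]))) (TL.node (TL.node (TL.leaf [nat_lit 22529, nat_lit 1, nat_lit 6, nat_lit 1, nat_lit 6]) (TL.leaf [nat_lit 12291, nat_lit 7, nat_lit 0, nat_lit 7, nat_lit 0])) (TL.leaf [nat_lit 34819, nat_lit 7, nat_lit 2, nat_lit 7, nat_lit 2])))) (TL.node (TL.node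 (TL.node (TL.node (TL.leaf [nat_lit 43009, nat_lit 3, nat_lit 7, nat_lit 3, nat_lit 7]) (TL.leaf [nat_lit 36865, nat_lit 3, nat_lit 4, nat_lit 3, nat_lit 4])) (TL.node (TL.leaf [nat_lit 20481, nat_lit 1, nat_lit 5, nat_lit 1, nat_lit 5]) (TL.leaf [nat_lit 18435, nat_lit 4, nat_lit 1, nat_lit 4, nat_lit 1]))) (TL.node (TL.node (TL.leaf [nat_lit 40961, nat_lit 3, nat_lit 6, nat_lit 3, nat_lit 6]) (TL.leaf [nat_lit 8195, nat_lit 5, nat_lit 0, nat_lit 5, nat_lit 0])) (TL.leaf [nat_lit 30723, nat_lit 5, nat_lit 2, nat_lit 5, nat_lit 2]))) (TL.node (TL.node (TL.node (TL.leaf [nat_lit 6145, nat_lit 0, nat_lit 4, nat_lit 0, nat_lit 4]) (TL.leaf [nat_lit 14339, nat_lit 2, nat_lit 1, nat_lit 2, nat_lit 1, nat_lit 2, nat_lit 1])) (TL.node (TL.leaf [nat_lit 40963, nat_lit 6, nat_lit 3, nat_lit 6, nat_lit 3]) (TL.leaf [nat_lit 6147, nat_lit 4, nat_lit 0, nat_lit 4, nat_lit 0]))) (TL.node (TL.node (TL.leaf [nat_lit 55299,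 nat_lit 7, nat_lit 6, nat_lit 7, nat_lit 6, nat_lit 7, nat_lit 6]) (TL.leaf [nat_lit 14337, nat_lit 1, nat_lit 2, nat_lit 1, nat_lit 2, nat_lit 1, nat_lit 2])) (TL.leaf [nat_lit 16387, nat_lit 3, nat_lit 1, nat_lit 3, nat_lit 1]))))))
noncomputable def W (i : ℕ) : List ℕ := TL.get W_t i
def WA_t : TL := (TL.leaf [nat_lit 0])
noncomputable def WA (i : ℕ) : List ℕ := TL.get WA_t i
noncomputable def row : ℕ → ℕ := hRow (nat_lit 239) (nat_lit 8) (nat_lit 7) (nat_lit 256) (nat_lit 64) (nat_lit 16384) (nat_lit 4096) (nat_lit 4096) (nat_lit 0) E X Pa (fun j => j) (wfun (nat_lit 56) W_t)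
noncomputable def aux : ℕ → ℕ := hAux (nat_lit 240) (nat_lit 8) (nat_lit 256) (nat_lit 16384) (nat_lit 4096) (nat_lit 2) (nat_lit 2) (nat_lit 4096) (nat_lit 0) E X J Pa (fun j => j) WA_t.get
theorem r0 : Nat.beq (rng row (nat_lit 0) (nat_lit 240)) (nat_lit 0) = true := by decide +kernel
theorem rows : ∀ i < 240, row i = 0 := by
  have h := zero_lt_zero row
  have h := zero_lt_add (a := (nat_lit 0)) (n := (nat_lit 240)) (b := (nat_lit 240)) h r0 rfl
  exact h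
theorem auxs : ∀ i < 0, aux i = 0 := by
  have h := zero_lt_zero aux
  exact h
theorem closes.{u} : ClosesT.{u} (fun j => j) rels 8 7 240 T :=
  hc_closes (N1 := (nat_lit 239)) rfl T_eq (by decide +kernel) rows auxs
theorem T_inv : ∀ c < 240, ∀ j < 8, T j c < 240 ∧ T j (T j c) = c := 
  hc_inv (inv := (fun j => j)) (N1 := (nat_lit 239)) rfl T_eq rows
end WE8

namespace UA7
def t0x : TN := (TN.leaf (nat_lit 0xc0b7896b0dcd858b36f645a00951b4a426e155c07ca506362c032276aa4e5014882d0041909104ae418803b20454868688c208820))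
def t1x : TN := (TN.leaf (nat_lit 0xc0f784eb0ecb015b3af63d943c2811a92741c90ea200e939e64c0415c12c201af22a074a00678ce63a0412100552468708c308820))
def t2x : TN := (TN.leaf (nat_lit 0x5031936b0aca09b40296f5ac4a99571061424a8a89013929f333a5d6c4cc105220a0805900a77cecf199d2882320088508c408820))
def t3x : TN := (TN.leaf (nat_lit 0xf03220df85de0b820356d5ac5add34a5a742caa98882d9a5e20ac808082a201c40321a4bb48780ecd19972aac41044400cc508820))
def t4x : TN := (TN.leaf (nat_lit 0xe035a36d00be0d832f220cec6ad974202d434a8b8d27092df29ba686c26c8956f2a8413882520122090804100654c68588c608820))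
def t5x : TN := (TN.leaf (nat_lit 0xdab768e841b655810664066eaa8830202f5548417101410584046986900f95170a2a1b4bb68784ecd99982aa84444620848010820))
def t6x : TN := (TN.leaf (nat_lit 0x106f95e740d08342037ae584189018c56620bc80ad9f0202547ba996c9ec95570aaa1c4bb88788ece19992aaa443c666084101001))
def tt : TN := (TN.node (TN.node (TN.node (TN.node t0x (TN.leaf (nat_lit 0))) (TN.node t4x (TN.leaf (nat_lit 0)))) (TN.node (TN.node t2x (TN.leaf (nat_lit 0))) (TN.node t6x (TN.leaf (nat_lit 0))))) (TN.node (TN.node (TN.node t1x (TN.leaf (nat_lit 0))) (TN.node t5x (TN.leaf (nat_lit 0)))) (TN.node (TN.node t3x (TN.leaf (nat_lit 0))) (TN.node (TN.leaf (nat_lit 0)) (TN.leaf (nat_lit 0))))))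
noncomputable def T (j c : ℕ) : ℕ := getL tt (nat_lit 15) (nat_lit 31) j c
noncomputable def E (j c : ℕ) : ℕ := getL tt (nat_lit 15) (nat_lit 32767) j c
theorem T_eq (j c : ℕ) : T j c = E j c % 32 :=
  getL_mod (a := 5) (b := 15) _ _ (by norm_num) (by norm_num) (by norm_num) (by norm_num) j c
def rels : List (List ℕ) := [[nat_lit 0, nat_lit 1, nat_lit 0, nat_lit 1, nat_lit 0, nat_lit 1], [nat_lit 0, nat_lit 2, nat_lit 0, nat_lit 2], [nat_lit 0, nat_lit 3, nat_lit 0, nat_lit 3], [nat_lit 0, nat_lit 4, nat_lit 0, nat_lit 4], [nat_lit 0, nat_lit 5, nat_lit 0, nat_lit 5], [nat_lit 0, nat_lit 6, nat_lit 0, nat_lit 6], [nat_lit 1, nat_lit 2, nat_lit 1, nat_lit 2, nat_lit 1, nat_lit 2], [nat_lit 1, nat_lit 3, nat_lit 1, nat_lit 3], [nat_lit 1, nat_lit 4, nat_lit 1, nat_lit 4], [nat_lit 1, nat_lit 5, nat_lit 1, nat_lit 5], [nat_lit 1, nat_lit 6, nat_lit 1, nat_lit 6], [nat_lit 2, nat_lit 3, nat_lit 2, nat_lit 3, nat_lit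 2, nat_lit 3], [nat_lit 2, nat_lit 4, nat_lit 2, nat_lit 4, nat_lit 2, nat_lit 4], [nat_lit 2, nat_lit 5, nat_lit 2, nat_lit 5], [nat_lit 2, nat_lit 6, nat_lit 2, nat_lit 6], [nat_lit 3, nat_lit 4, nat_lit 3, nat_lit 4], [nat_lit 3, nat_lit 5, nat_lit 3, nat_lit 5, nat_lit 3, nat_lit 5], [nat_lit 3, nat_lit 6, nat_lit 3, nat_lit 6], [nat_lit 4, nat_lit 5, nat_lit 4, nat_lit 5], [nat_lit 4, nat_lit 6, nat_lit 4, nat_lit 6], [nat_lit 5, nat_lit 6, nat_lit 5, nat_lit 6, nat_lit 5, nat_lit 6], [nat_lit 4, nat_lit 6, nat_lit 5, nat_lit 3, nat_lit 2, nat_lit 1, nat_lit 0, nat_lit 4, nat_lit 6, nat_lit 5, nat_lit 3, nat_lit 2, nat_lit 1, nat_lit 0, nat_lit 4, nat_lit 6, nat_lit 5, nat_lit 3, nat_lit 2, nat_lit 1, nat_lit 0, nat_lit 4, nat_lit 6, nat_lit 5, nat_lit 3, nat_lit 2, nat_lit 1, nat_lit 0, nat_lit 4, nat_lit 6, nat_lit 5, nat_lit 3, nat_lit 2, nat_lit 1, nat_lit 0, nat_lit 4, nat_lit 6, nat_lit 5, nat_lit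 3, nat_lit 2, nat_lit 1, nat_lit 0, nat_lit 4, nat_lit 6, nat_lit 5, nat_lit 3, nat_lit 2, nat_lit 1, nat_lit 0, nat_lit 4, nat_lit 6, nat_lit 5, nat_lit 3, nat_lit 2, nat_lit 1, nat_lit 0, nat_lit 4, nat_lit 6, nat_lit 5, nat_lit 3, nat_lit 2, nat_lit 1, nat_lit 0]]
def X_t : TN := (TN.leaf (nat_lit 0))
noncomputable def X (i : ℕ) : ℕ := get9 X_t (nat_lit 1) (nat_lit 1) i
def Jp_t : TN := (TN.leaf (nat_lit 0))
noncomputable def Jp (i : ℕ) : ℕ := get9 Jp_t (nat_lit 1) (nat_lit 1) i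
def J_t : TN := (TN.leaf (nat_lit 0))
noncomputable def J (k : ℕ) : ℕ := getV J_t Jp k
def Pa_t : TN := (TN.leaf (nat_lit 0xdbb6dcf6cb946c9ae4d2e2d705b8153da9cb4d3962cace5630a38493a09ce8c546282911482832311905440c000))
noncomputable def Pa (i : ℕ) : ℕ := get9 Pa_t (nat_lit 13) (nat_lit 8191) i
def W_t : TL := (TL.node (TL.node (TL.node (TL.node (TL.node (TL.node (TL.leaf [nat_lit 10241, nat_lit 0, nat_lit 6, nat_lit 0, nat_lit 6]) (TL.leaf [nat_lit 10243, nat_lit 6, nat_lit 0, nat_lit 6, nat_lit 0])) (TL.leaf [nat_lit 4097, nat_lit 0, nat_lit 3, nat_lit 0, nat_lit 3])) (TL.node (TL.node (TL.leaf [nat_lit 26625, nat_lit 2, nat_lit 5, nat_lit 2, nat_lit 5]) (TL.leaf [nat_lit 40961, nat_lit 5, nat_lit 6, nat_lit 5, nat_lit 6, nat_lit 5, nat_lit 6])) (TL.leaf [nat_lit 30721, nat_lit 3, nat_lit 4, nat_lit 3, nat_lit 4]))) (TL.node (TL.node (TL.node (TL.leaf [nat_lit 38913, nat_lit 4, nat_lit 6, nat_lit 4, nat_lit 6])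 (TL.leaf [nat_lit 22529, nat_lit 2, nat_lit 3, nat_lit 2, nat_lit 3, nat_lit 2, nat_lit 3])) (TL.leaf [nat_lit 22531, nat_lit 3, nat_lit 2, nat_lit 3, nat_lit 2, nat_lit 3, nat_lit 2])) (TL.node (TL.leaf [nat_lit 18433, nat_lit 1, nat_lit 5, nat_lit 1, nat_lit 5]) (TL.leaf [nat_lit 24577, nat_lit 2, nat_lit 4, nat_lit 2, nat_lit 4, nat_lit 2, nat_lit 4])))) (TL.node (TL.node (TL.node (TL.node (TL.leaf [nat_lit 28673, nat_lit 2, nat_lit 6, nat_lit 2, nat_lit 6]) (TL.leaf [nat_lit 12289, nat_lit 1, nat_lit 2, nat_lit 1, nat_lit 2, nat_lit 1, nat_lit 2])) (TL.leaf [nat_lit 26627, nat_lit 5, nat_lit 2, nat_lit 5, nat_lit 2])) (TL.node (TL.leaf [nat_lit 40963, nat_lit 6, nat_lit 5, nat_lit 6, nat_lit 5, nat_lit 6, nat_lit 5]) (TL.leaf [nat_lit 38915, nat_lit 6, nat_lit 4, nat_lit 6, nat_lit 4]))) (TL.node (TL.node (TL.node (TL.leaf [nat_lit 6145, nat_lit 0, nat_lit 4, nat_lit 0, nat_lit 4]) (TL.leaf [nat_lit 16387,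 nat_lit 4, nat_lit 1, nat_lit 4, nat_lit 1])) (TL.leaf [nat_lit 18435, nat_lit 5, nat_lit 1, nat_lit 5, nat_lit 1])) (TL.node (TL.leaf [nat_lit 2049, nat_lit 0, nat_lit 2, nat_lit 0, nat_lit 2]) (TL.leaf [nat_lit 4099, nat_lit 3, nat_lit 0, nat_lit 3, nat_lit 0]))))) (TL.node (TL.node (TL.node (TL.node (TL.node (TL.leaf [nat_lit 20481, nat_lit 1, nat_lit 6, nat_lit 1, nat_lit 6]) (TL.leaf [nat_lit 3, nat_lit 1, nat_lit 0, nat_lit 1, nat_lit 0, nat_lit 1, nat_lit 0])) (TL.leaf [nat_lit 30723, nat_lit 4, nat_lit 3, nat_lit 4, nat_lit 3])) (TL.node (TL.node (TL.leaf [nat_lit 36865, nat_lit 4, nat_lit 5, nat_lit 4, nat_lit 5]) (TL.leaf [nat_lit 43011, nat_lit 6, nat_lit 5, nat_lit 3, nat_lit 2, nat_lit 1, nat_lit 0, nat_lit 4, nat_lit 6, nat_lit 5, nat_lit 3, nat_lit 2, nat_lit 1, nat_lit 0, nat_lit 4, nat_lit 6, nat_lit 5, nat_lit 3, nat_lit 2, nat_lit 1, nat_lit 0, nat_lit 4, nat_lit 6, nat_lit 5, nat_lit 3, nat_lit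 2, nat_lit 1, nat_lit 0, nat_lit 4, nat_lit 6, nat_lit 5, nat_lit 3, nat_lit 2, nat_lit 1, nat_lit 0, nat_lit 4, nat_lit 6, nat_lit 5, nat_lit 3, nat_lit 2, nat_lit 1, nat_lit 0, nat_lit 4, nat_lit 6, nat_lit 5, nat_lit 3, nat_lit 2, nat_lit 1, nat_lit 0, nat_lit 4, nat_lit 6, nat_lit 5, nat_lit 3, nat_lit 2, nat_lit 1, nat_lit 0, nat_lit 4, nat_lit 6, nat_lit 5, nat_lit 3, nat_lit 2, nat_lit 1, nat_lit 0, nat_lit 4])) (TL.leaf [nat_lit 36867, nat_lit 5, nat_lit 4, nat_lit 5, nat_lit 4]))) (TL.node (TL.node (TL.node (TL.leaf [nat_lit 16385, nat_lit 1, nat_lit 4, nat_lit 1, nat_lit 4]) (TL.leaf [nat_lit 1, nat_lit 0, nat_lit 1, nat_lit 0, nat_lit 1, nat_lit 0, nat_lit 1])) (TL.leaf [nat_lit 14339, nat_lit 3, nat_lit 1, nat_lit 3, nat_lit 1])) (TL.node (TL.leaf [nat_lit 34819, nat_lit 6, nat_lit 3, nat_lit 6, nat_lit 3]) (TL.leaf [nat_lit 2051, nat_lit 2, nat_lit 0, nat_lit 2, nat_lit 0])))) (TL.node (TL.node (TL.node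 (TL.node (TL.leaf [nat_lit 34817, nat_lit 3, nat_lit 6, nat_lit 3, nat_lit 6]) (TL.leaf [nat_lit 24579, nat_lit 4, nat_lit 2, nat_lit 4, nat_lit 2, nat_lit 4, nat_lit 2])) (TL.leaf [nat_lit 28675, nat_lit 6, nat_lit 2, nat_lit 6, nat_lit 2])) (TL.node (TL.leaf [nat_lit 8193, nat_lit 0, nat_lit 5, nat_lit 0, nat_lit 5]) (TL.leaf [nat_lit 12291, nat_lit 2, nat_lit 1, nat_lit 2, nat_lit 1, nat_lit 2, nat_lit 1]))) (TL.node (TL.node (TL.node (TL.leaf [nat_lit 14337, nat_lit 1, nat_lit 3, nat_lit 1, nat_lit 3]) (TL.leaf [nat_lit 32769, nat_lit 3, nat_lit 5, nat_lit 3, nat_lit 5, nat_lit 3, nat_lit 5])) (TL.leaf [nat_lit 20483, nat_lit 6, nat_lit 1, nat_lit 6, nat_lit 1])) (TL.node (TL.leaf [nat_lit 32771, nat_lit 5, nat_lit 3, nat_lit 5, nat_lit 3, nat_lit 5, nat_lit 3]) (TL.leaf [nat_lit 8195, nat_lit 5, nat_lit 0, nat_lit 5, nat_lit 0]))))))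
noncomputable def W (i : ℕ) : List ℕ := TL.get W_t i
def WA_t : TL := (TL.leaf [nat_lit 0])
noncomputable def WA (i : ℕ) : List ℕ := TL.get WA_t i
noncomputable def row : ℕ → ℕ := hRow (nat_lit 27) (nat_lit 7) (nat_lit 6) (nat_lit 32) (nat_lit 64) (nat_lit 2048) (nat_lit 512) (nat_lit 512) (nat_lit 0) E X Pa (fun j => j) (wfun (nat_lit 42) W_t)
noncomputable def aux : ℕ → ℕ := hAux (nat_lit 28) (nat_lit 7) (nat_lit 32) (nat_lit 2048) (nat_lit 512) (nat_lit 2) (nat_lit 2) (nat_lit 512) (nat_lit 0) E X J Pa (fun j => j) WA_t.get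
theorem r0 : Nat.beq (rng row (nat_lit 0) (nat_lit 28)) (nat_lit 0) = true := by decide +kernel
theorem rows : ∀ i < 28, row i = 0 := by
  have h := zero_lt_zero row
  have h := zero_lt_add (a := (nat_lit 0)) (n := (nat_lit 28)) (b := (nat_lit 28)) h r0 rfl
  exact h
theorem auxs : ∀ i < 0, aux i = 0 := by
  have h := zero_lt_zero aux
  exact h
theorem closes.{u} : ClosesT.{u} (fun j => j) rels 7 6 28 T :=
  hc_closes (N1 := (nat_lit 27)) rfl T_eq (by decide +kernel) rows auxs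
theorem T_inv : ∀ c < 28, ∀ j < 7, T j c < 28 ∧ T j (T j c) = c := 
  hc_inv (inv := (fun j => j)) (N1 := (nat_lit 27)) rfl T_eq rows
end UA7

namespace UB7
def t0x : TN := (TN.leaf (nat_lit 0xc0b7896b0dcd858b36f645a00951b4a426e155c07ca506362c032276aa4e5014882d0041909104ae418803b20454868688c208820))
def t1x : TN := (TN.leaf (nat_lit 0xc0f784eb0ecb015b3af63d943c2811a92741c90ea200e939e64c0415c12c201af22a074a00678ce63a0412100552468708c308820))
def t2x : TN := (TN.leaf (nat_lit 0x5031936b0aca09b40296f5ac4a99571061424a8a89013929f333a5d6c4cc105220a0805900a77cecf199d2882320088508c408820))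
def t3x : TN := (TN.leaf (nat_lit 0xe03220df45de0b820356d5ac5add34a5a742caa98882d9a5e20ac808082a201c40321a4bb48780ecd19972aac41044400cc508820))
def t4x : TN := (TN.leaf (nat_lit 0xf035c36d00be0d832f220cec6ad974202d434a8b8d27092df29ba686c26c8956f2a8413882520122090804100654c68588c608820))
def t5x : TN := (TN.leaf (nat_lit 0xdab768e841b655810664066eaa8830202f5548417101410584046986900f95170a2a1b4bb68784ecd99982aa84444620848010820))
def t6x : TN := (TN.leaf (nat_lit 0x106fa0672bd08342037ae584189018c56620bc80ad9f0202547ba996c9ec95570aaa1c4bb88788ece19992aaa443c666084101001))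
def tt : TN := (TN.node (TN.node (TN.node (TN.node t0x (TN.leaf (nat_lit 0))) (TN.node t4x (TN.leaf (nat_lit 0)))) (TN.node (TN.node t2x (TN.leaf (nat_lit 0))) (TN.node t6x (TN.leaf (nat_lit 0))))) (TN.node (TN.node (TN.node t1x (TN.leaf (nat_lit 0))) (TN.node t5x (TN.leaf (nat_lit 0)))) (TN.node (TN.node t3x (TN.leaf (nat_lit 0))) (TN.node (TN.leaf (nat_lit 0)) (TN.leaf (nat_lit 0))))))
noncomputable def T (j c : ℕ) : ℕ := getL tt (nat_lit 15) (nat_lit 31) j c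
noncomputable def E (j c : ℕ) : ℕ := getL tt (nat_lit 15) (nat_lit 32767) j c
theorem T_eq (j c : ℕ) : T j c = E j c % 32 :=
  getL_mod (a := 5) (b := 15) _ _ (by norm_num) (by norm_num) (by norm_num) (by norm_num) j c
def rels : List (List ℕ) := [[nat_lit 0, nat_lit 1, nat_lit 0, nat_lit 1, nat_lit 0, nat_lit 1], [nat_lit 0, nat_lit 2, nat_lit 0, nat_lit 2], [nat_lit 0, nat_lit 3, nat_lit 0, nat_lit 3], [nat_lit 0, nat_lit 4, nat_lit 0, nat_lit 4], [nat_lit 0, nat_lit 5, nat_lit 0, nat_lit 5], [nat_lit 0, nat_lit 6, nat_lit 0, nat_lit 6], [nat_lit 1, nat_lit 2, nat_lit 1, nat_lit 2, nat_lit 1, nat_lit 2], [nat_lit 1, nat_lit 3, nat_lit 1, nat_lit 3], [nat_lit 1, nat_lit 4, nat_lit 1, nat_lit 4], [nat_lit 1, nat_lit 5, nat_lit 1, nat_lit 5], [nat_lit 1, nat_lit 6, nat_lit 1, nat_lit 6], [nat_lit 2, nat_lit 3, nat_lit 2, nat_lit 3, nat_lit 2, nat_lit 3], [nat_lit 2, nat_lit 4, nat_lit 2, nat_lit 4, nat_lit 2,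 nat_lit 4], [nat_lit 2, nat_lit 5, nat_lit 2, nat_lit 5], [nat_lit 2, nat_lit 6, nat_lit 2, nat_lit 6], [nat_lit 3, nat_lit 4, nat_lit 3, nat_lit 4], [nat_lit 3, nat_lit 5, nat_lit 3, nat_lit 5, nat_lit 3, nat_lit 5], [nat_lit 3, nat_lit 6, nat_lit 3, nat_lit 6], [nat_lit 4, nat_lit 5, nat_lit 4, nat_lit 5], [nat_lit 4, nat_lit 6, nat_lit 4, nat_lit 6], [nat_lit 5, nat_lit 6, nat_lit 5, nat_lit 6, nat_lit 5, nat_lit 6], [nat_lit 4, nat_lit 0, nat_lit 1, nat_lit 2, nat_lit 3, nat_lit 5, nat_lit 6, nat_lit 4, nat_lit 0, nat_lit 1, nat_lit 2, nat_lit 3, nat_lit 5, nat_lit 6, nat_lit 4, nat_lit 0, nat_lit 1, nat_lit 2, nat_lit 3, nat_lit 5, nat_lit 6, nat_lit 4, nat_lit 0, nat_lit 1, nat_lit 2, nat_lit 3, nat_lit 5, nat_lit 6, nat_lit 4, nat_lit 0, nat_lit 1, nat_lit 2, nat_lit 3, nat_lit 5, nat_lit 6, nat_lit 4, nat_lit 0, nat_lit 1, nat_lit 2, nat_lit 3, nat_lit 5, nat_lit 6, nat_lit 4, nat_lit 0, nat_lit 1, nat_lit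 2, nat_lit 3, nat_lit 5, nat_lit 6, nat_lit 4, nat_lit 0, nat_lit 1, nat_lit 2, nat_lit 3, nat_lit 5, nat_lit 6, nat_lit 4, nat_lit 0, nat_lit 1, nat_lit 2, nat_lit 3, nat_lit 5, nat_lit 6]]
def X_t : TN := (TN.leaf (nat_lit 0))
noncomputable def X (i : ℕ) : ℕ := get9 X_t (nat_lit 1) (nat_lit 1) i
def Jp_t : TN := (TN.leaf (nat_lit 0))
noncomputable def Jp (i : ℕ) : ℕ := get9 Jp_t (nat_lit 1) (nat_lit 1) i
def J_t : TN := (TN.leaf (nat_lit 0))
noncomputable def J (k : ℕ) : ℕ := getV J_t Jp k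
def Pa_t : TN := (TN.leaf (nat_lit 0xdbb6dcf6cb946c9ae4d2e2d705b8153da9cb4d3962cace5630a38493a09ce8c546282911482832311905440c000))
noncomputable def Pa (i : ℕ) : ℕ := get9 Pa_t (nat_lit 13) (nat_lit 8191) i
def W_t : TL := (TL.node (TL.node (TL.node (TL.node (TL.node (TL.node (TL.leaf [nat_lit 10241, nat_lit 0, nat_lit 6, nat_lit 0, nat_lit 6]) (TL.leaf [nat_lit 10243, nat_lit 6, nat_lit 0, nat_lit 6, nat_lit 0])) (TL.leaf [nat_lit 4097, nat_lit 0, nat_lit 3, nat_lit 0, nat_lit 3])) (TL.node (TL.node (TL.leaf [nat_lit 26625, nat_lit 2, nat_lit 5, nat_lit 2, nat_lit 5]) (TL.leaf [nat_lit 40961, nat_lit 5, nat_lit 6, nat_lit 5, nat_lit 6, nat_lit 5, nat_lit 6])) (TL.leaf [nat_lit 30721, nat_lit 3, nat_lit 4, nat_lit 3, nat_lit 4]))) (TL.node (TL.node (TL.node (TL.leaf [nat_lit 38913, nat_lit 4, nat_lit 6, nat_lit 4, nat_lit 6]) (TL.leaf [nat_lit 22529, nat_lit 2, nat_lit 3, nat_lit 2, nat_lit 3, nat_lit 2, nat_lit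 3])) (TL.leaf [nat_lit 22531, nat_lit 3, nat_lit 2, nat_lit 3, nat_lit 2, nat_lit 3, nat_lit 2])) (TL.node (TL.leaf [nat_lit 18433, nat_lit 1, nat_lit 5, nat_lit 1, nat_lit 5]) (TL.leaf [nat_lit 24577, nat_lit 2, nat_lit 4, nat_lit 2, nat_lit 4, nat_lit 2, nat_lit 4])))) (TL.node (TL.node (TL.node (TL.node (TL.leaf [nat_lit 28673, nat_lit 2, nat_lit 6, nat_lit 2, nat_lit 6]) (TL.leaf [nat_lit 12289, nat_lit 1, nat_lit 2, nat_lit 1, nat_lit 2, nat_lit 1, nat_lit 2])) (TL.leaf [nat_lit 26627, nat_lit 5, nat_lit 2, nat_lit 5, nat_lit 2])) (TL.node (TL.leaf [nat_lit 40963, nat_lit 6, nat_lit 5, nat_lit 6, nat_lit 5, nat_lit 6, nat_lit 5]) (TL.leaf [nat_lit 38915, nat_lit 6, nat_lit 4, nat_lit 6, nat_lit 4]))) (TL.node (TL.node (TL.node (TL.leaf [nat_lit 6145, nat_lit 0, nat_lit 4, nat_lit 0, nat_lit 4]) (TL.leaf [nat_lit 16387, nat_lit 4, nat_lit 1, nat_lit 4, nat_lit 1])) (TL.leaf [nat_lit 18435, nat_lit 5, nat_lit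 1, nat_lit 5, nat_lit 1])) (TL.node (TL.leaf [nat_lit 2049, nat_lit 0, nat_lit 2, nat_lit 0, nat_lit 2]) (TL.leaf [nat_lit 4099, nat_lit 3, nat_lit 0, nat_lit 3, nat_lit 0]))))) (TL.node (TL.node (TL.node (TL.node (TL.node (TL.leaf [nat_lit 20481, nat_lit 1, nat_lit 6, nat_lit 1, nat_lit 6]) (TL.leaf [nat_lit 3, nat_lit 1, nat_lit 0, nat_lit 1, nat_lit 0, nat_lit 1, nat_lit 0])) (TL.leaf [nat_lit 30723, nat_lit 4, nat_lit 3, nat_lit 4, nat_lit 3])) (TL.node (TL.node (TL.leaf [nat_lit 36865, nat_lit 4, nat_lit 5, nat_lit 4, nat_lit 5]) (TL.leaf [nat_lit 43021, nat_lit 6, nat_lit 4, nat_lit 0, nat_lit 1, nat_lit 2, nat_lit 3, nat_lit 5, nat_lit 6, nat_lit 4, nat_lit 0, nat_lit 1, nat_lit 2, nat_lit 3, nat_lit 5, nat_lit 6, nat_lit 4, nat_lit 0, nat_lit 1, nat_lit 2, nat_lit 3, nat_lit 5, nat_lit 6, nat_lit 4, nat_lit 0, nat_lit 1, nat_lit 2, nat_lit 3, nat_lit 5, nat_lit 6, nat_lit 4, nat_lit 0, nat_lit 1, nat_lit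 2, nat_lit 3, nat_lit 5, nat_lit 6, nat_lit 4, nat_lit 0, nat_lit 1, nat_lit 2, nat_lit 3, nat_lit 5, nat_lit 6, nat_lit 4, nat_lit 0, nat_lit 1, nat_lit 2, nat_lit 3, nat_lit 5, nat_lit 6, nat_lit 4, nat_lit 0, nat_lit 1, nat_lit 2, nat_lit 3, nat_lit 5, nat_lit 6, nat_lit 4, nat_lit 0, nat_lit 1, nat_lit 2, nat_lit 3, nat_lit 5])) (TL.leaf [nat_lit 36867, nat_lit 5, nat_lit 4, nat_lit 5, nat_lit 4]))) (TL.node (TL.node (TL.node (TL.leaf [nat_lit 16385, nat_lit 1, nat_lit 4, nat_lit 1, nat_lit 4]) (TL.leaf [nat_lit 1, nat_lit 0, nat_lit 1, nat_lit 0, nat_lit 1, nat_lit 0, nat_lit 1])) (TL.leaf [nat_lit 14339, nat_lit 3, nat_lit 1, nat_lit 3, nat_lit 1])) (TL.node (TL.leaf [nat_lit 34819, nat_lit 6, nat_lit 3, nat_lit 6, nat_lit 3]) (TL.leaf [nat_lit 2051, nat_lit 2, nat_lit 0, nat_lit 2, nat_lit 0])))) (TL.node (TL.node (TL.node (TL.node (TL.leaf [nat_lit 34817, nat_lit 3, nat_lit 6, nat_lit 3, nat_lit 6]) (TL.leaf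 [nat_lit 24579, nat_lit 4, nat_lit 2, nat_lit 4, nat_lit 2, nat_lit 4, nat_lit 2])) (TL.leaf [nat_lit 28675, nat_lit 6, nat_lit 2, nat_lit 6, nat_lit 2])) (TL.node (TL.leaf [nat_lit 8193, nat_lit 0, nat_lit 5, nat_lit 0, nat_lit 5]) (TL.leaf [nat_lit 12291, nat_lit 2, nat_lit 1, nat_lit 2, nat_lit 1, nat_lit 2, nat_lit 1]))) (TL.node (TL.node (TL.node (TL.leaf [nat_lit 14337, nat_lit 1, nat_lit 3, nat_lit 1, nat_lit 3]) (TL.leaf [nat_lit 32769, nat_lit 3, nat_lit 5, nat_lit 3, nat_lit 5, nat_lit 3, nat_lit 5])) (TL.leaf [nat_lit 20483, nat_lit 6, nat_lit 1, nat_lit 6, nat_lit 1])) (TL.node (TL.leaf [nat_lit 32771, nat_lit 5, nat_lit 3, nat_lit 5, nat_lit 3, nat_lit 5, nat_lit 3]) (TL.leaf [nat_lit 8195, nat_lit 5, nat_lit 0, nat_lit 5, nat_lit 0]))))))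
noncomputable def W (i : ℕ) : List ℕ := TL.get W_t i
def WA_t : TL := (TL.leaf [nat_lit 0])
noncomputable def WA (i : ℕ) : List ℕ := TL.get WA_t i
noncomputable def row : ℕ → ℕ := hRow (nat_lit 27) (nat_lit 7) (nat_lit 6) (nat_lit 32) (nat_lit 64) (nat_lit 2048) (nat_lit 512) (nat_lit 512) (nat_lit 0) E X Pa (fun j => j) (wfun (nat_lit 42) W_t)
noncomputable def aux : ℕ → ℕ := hAux (nat_lit 28) (nat_lit 7) (nat_lit 32) (nat_lit 2048) (nat_lit 512) (nat_lit 2) (nat_lit 2) (nat_lit 512) (nat_lit 0) E X J Pa (fun j => j) WA_t.get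
theorem r0 : Nat.beq (rng row (nat_lit 0) (nat_lit 28)) (nat_lit 0) = true := by decide +kernel
theorem rows : ∀ i < 28, row i = 0 := by
  have h := zero_lt_zero row
  have h := zero_lt_add (a := (nat_lit 0)) (n := (nat_lit 28)) (b := (nat_lit 28)) h r0 rfl
  exact h
theorem auxs : ∀ i < 0, aux i = 0 := by
  have h := zero_lt_zero aux
  exact h
theorem closes.{u} : ClosesT.{u} (fun j => j) rels 7 6 28 T :=
  hc_closes (N1 := (nat_lit 27)) rfl T_eq (by decide +kernel) rows auxs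
theorem T_inv : ∀ c < 28, ∀ j < 7, T j c < 28 ∧ T j (T j c) = c := 
  hc_inv (inv := (fun j => j)) (N1 := (nat_lit 27)) rfl T_eq rows
end UB7

end Cfsg.Agent.Fi
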