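import Cfsg.Agent.Lib.Fischer.Exi
import Cfsg.Agent.Lib.PermCert.Cox
import Cfsg.Agent.Lib.Fischer.UB.W

/-! Upper bounds for the orders of some Weyl groups given by their Coxeter relations. -/

set_option autoImplicit false

namespace Cfsg.Agent.Fi

open Cfsg.Agent.PC

variable {G : Type} [Group G] {g : ℕ → G}

/-- product orders along a list of edges -/
def LE (E : List (ℕ × ℕ)) (a b : ℕ) : ℕ := if (a, b) ∈ E ∨ (b, a) ∈ E then 3 else 2
def LY : ℕ → ℕ → ℕ := LE [(0, 1), (1, 2), (2, 3), (4, 2), (5, 3), (6, 5), (7, 4), (8, 0), (9, 8)]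
def L8 : ℕ → ℕ → ℕ := LE [(0, 1), (1, 2), (2, 3), (4, 2), (5, 3), (6, 5), (7, 6)]

theorem cx_mono {n n' : ℕ} {L : ℕ → ℕ → ℕ} (h : Cx g n L) (hn : n' ≤ n) : Cx g n' L :=
  fun a ha => ⟨(h a (by omega)).1, fun b hb => (h a (by omega)).2 b (by omega)⟩

theorem cx_idx {m N : ℕ} {L T : ℕ → ℕ → ℕ} {rels ex : List (List ℕ)} (hc : ClosesT.{0} (fun j => j) rels (m + 1) m (N + 1) T)
    (h : Cx g (m + 1) L) (he : ∀ w ∈ ex, ev g w = 1)
    (hr : ∀ w ∈ rels, w ∈ ex ∨ w.getD 0 0 < m + 1 ∧ w.getD 1 0 < m + 1 ∧ w.getD 1 0 ≠ w.getD 0 0 ∧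
      w = wpow [w.getD 0 0, w.getD 1 0] (L (w.getD 1 0) (w.getD 0 0))) :
    (gen g m).relIndex (gen g (m + 1)) ≠ 0 ∧ (gen g m).relIndex (gen g (m + 1)) ≤ N + 1 :=
  (hc.closes h.inv (h.rels he hr)).relIndex h.inv N.succ_pos _ fun _ hj => mem_gen g hj

theorem le_E6 (h : Cx g 6 LY) : CardLE (gen g 6) 51840 := by
  have sq : ∀ i < 6, g i * g i = 1 := fun i hi => (h i hi).1
  have a4 : CoxA g 4 := ⟨fun i hi => sq i (by omega), fun i hi => braid_of (sq _ (by omega)) (sq _ (by omega))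
    ((by decide +kernel : ∀ i < 3, LY i (i + 1) = 3) i (by omega) ▸ (h i (by omega)).2 _ (by omega) (by omega)),
    fun i j a b => comm_of (sq _ (by omega)) (sq _ (by omega))
    ((by decide +kernel : ∀ j < 4, ∀ i < 4, i + 1 < j → LY i j = 2) j b i (by omega) a ▸
      (h i (by omega)).2 _ (by omega) (by omega))⟩
  exact (a4.card.of_relIndex (cx_idx WD5.closes (cx_mono h (by omega)) (ex := []) (by simp) (by decide +kernel))).of_relIndex
    (cx_idx WE6.closes h (ex := []) (by simp) (by decide +kernel))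

theorem le_E7 (h : Cx g 7 LY) : CardLE (gen g 7) 2903040 :=
  (le_E6 (cx_mono h (by omega))).of_relIndex (cx_idx WE7.closes h (ex := []) (by simp) (by decide +kernel))

theorem le_E8 (h : Cx g 8 L8) : CardLE (gen g 8) 696729600 :=
  (le_E7 (h.comp (fun j => j) (by decide +kernel))).of_relIndex (cx_idx WE8.closes h (ex := []) (by simp) (by decide +kernel))

end Cfsg.Agent.Fi
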